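import Mathlib
import Groth.Agent.Lib.Helper2.ImageReduced

set_option autoImplicit false
universe u
open AlgebraicGeometry CategoryTheory Limits TopologicalSpace

namespace Groth.Agent.H5.ImmD

/-- For a morphism from a reduced scheme, the vanishing ideal of the closure of the range is
contained in the kernel. -/
theorem vanishingIdeal_closure_range_le_ker {X Y : Scheme.{u}} (f : X ⟶ Y) [IsReduced X] :
    Scheme.IdealSheafData.vanishingIdeal ⟨closure (Set.range f.base), isClosed_closure⟩ ≤ f.ker := by
  rw [Scheme.Hom.ker, Scheme.IdealSheafData.le_ofIdeals_iff]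
  intro V s hs
  rw [Scheme.IdealSheafData.vanishingIdeal_ideal, PrimeSpectrum.mem_vanishingIdeal] at hs
  rw [RingHom.mem_ker]
  apply eq_zero_of_basicOpen_eq_bot
  rw [← Scheme.Hom.preimage_basicOpen]
  ext x
  simp only [Opens.coe_bot, Set.mem_empty_iff_false, iff_false]
  intro hx
  have hxV : (f.base x) ∈ V.1 := Y.basicOpen_le s hx
  have h1 := hs (V.2.primeIdealOf ⟨f.base x, hxV⟩) (by
    rw [Set.mem_preimage, V.2.fromSpec_primeIdealOf]
    exact subset_closure ⟨x, rfl⟩)
  have h2 : V.2.primeIdealOf ⟨f.base x, hxV⟩ ∈ PrimeSpectrum.basicOpen s := by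
    rw [← V.2.fromSpec_preimage_basicOpen]
    change V.2.fromSpec (V.2.primeIdealOf ⟨f.base x, hxV⟩) ∈ Y.basicOpen s
    rw [V.2.fromSpec_primeIdealOf]
    exact hx
  exact h2 h1

theorem support_ker_of_isReduced {X Y : Scheme.{u}} (f : X ⟶ Y) [IsReduced X] :
    (f.ker.support : Set Y) = closure (Set.range f.base) := by
  apply subset_antisymm
  · have h1 := vanishingIdeal_closure_range_le_ker f
    have h2 := Scheme.IdealSheafData.support_antitone h1
    have h3 := Scheme.IdealSheafData.coe_support_vanishingIdeal
      (⟨closure (Set.range f.base), isClosed_closure⟩ : Closeds Y)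
    intro y hy
    have : y ∈ ((Scheme.IdealSheafData.vanishingIdeal
      ⟨closure (Set.range f.base), isClosed_closure⟩).support : Set Y) := h2 hy
    rw [h3] at this
    exact this
  · rw [(f.ker.support).isClosed.closure_subset_iff]
    exact f.range_subset_ker_support

theorem denseRange_toImage_of_isReduced {X Y : Scheme.{u}} (f : X ⟶ Y) [IsReduced X] :
    DenseRange f.toImage.base := by
  rw [denseRange_iff_closure_range, f.imageι.isEmbedding.closure_eq_preimage_closure_image,
    ← Set.univ_subset_iff, ← Set.image_subset_iff, Set.image_univ,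
    Scheme.IdealSheafData.range_subschemeι, support_ker_of_isReduced, ← Set.range_comp]
  apply closure_mono
  rw [← TopCat.coe_comp, ← Scheme.Hom.comp_base, f.toImage_imageι]

end Groth.Agent.H5.ImmD
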