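import Mathlib
import Groth.Agent.Lib.Helper5.ImmD.A

set_option autoImplicit false
universe u
open AlgebraicGeometry CategoryTheory Limits TopologicalSpace

namespace Groth.Agent.H5.ImmD

/-- A dominant immersion into a reduced scheme is an open immersion. -/
theorem isOpenImmersion_of_denseRange_of_isReduced {Z Y : Scheme.{u}} (k : Z ⟶ Y) [IsImmersion k]
    [IsReduced Y] (hd : DenseRange k.base) : IsOpenImmersion k := by
  have hcl : IsClosed (Set.range k.liftCoborder.base) :=
    k.liftCoborder.isClosedEmbedding.isClosed_range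
  have hdense : Dense (Set.range k.liftCoborder.base) := by
    rw [dense_iff_inter_open]
    intro N hN ⟨u, hu⟩
    have hN' : IsOpen (k.coborderRange.ι.base '' N) :=
      k.coborderRange.ι.isOpenEmbedding.isOpenMap _ hN
    obtain ⟨y, hyN, z, rfl⟩ := hd.inter_open_nonempty _ hN' ⟨_, u, hu, rfl⟩
    obtain ⟨u', hu', hu'z⟩ := hyN
    refine ⟨k.liftCoborder.base z, ?_, ⟨z, rfl⟩⟩
    have : k.coborderRange.ι.base (k.liftCoborder.base z) = k.base z := by
      rw [← Scheme.Hom.comp_apply, k.liftCoborder_ι]
    have h2 : u' = k.liftCoborder.base z :=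
      k.coborderRange.ι.isOpenEmbedding.injective (hu'z.trans this.symm)
    rw [← h2]
    exact hu'
  have hsurj : Function.Surjective k.liftCoborder.base := by
    rw [← Set.range_eq_univ, ← hcl.closure_eq]
    exact hdense.closure_eq
  haveI : Surjective k.liftCoborder := ⟨hsurj⟩
  haveI : IsIso k.liftCoborder := isIso_of_isClosedImmersion_of_surjective _
  rw [← k.liftCoborder_ι]
  infer_instance

theorem isOpenImmersion_toImage_of_isReduced {Z X : Scheme.{u}} (h : Z ⟶ X) [IsImmersion h]
    [IsReduced Z] : IsOpenImmersion h.toImage := by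
  haveI : IsReduced h.image := Groth.Agent.H2.isReduced_image h
  exact isOpenImmersion_of_denseRange_of_isReduced _ (denseRange_toImage_of_isReduced h)

/-- Restriction of a dense open to an open `W` is dominant. -/
theorem isSchemeTheoreticallyDominant_homOfLE_of_isReduced {Y : Scheme.{u}} [IsReduced Y]
    (U W : Y.Opens) (hU : Dense (U : Set Y)) :
    IsSchemeTheoreticallyDominant (Y.homOfLE (inf_le_right : U ⊓ W ≤ W)) := by
  haveI : IsDominant (Y.homOfLE (inf_le_right : U ⊓ W ≤ W)) := by
    constructor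
    rw [DenseRange, dense_iff_inter_open]
    intro N hN ⟨w, hw⟩
    have hN' : IsOpen (W.ι.base '' N) := W.ι.isOpenEmbedding.isOpenMap _ hN
    obtain ⟨y, hyN, hyU⟩ := hU.inter_open_nonempty _ hN' ⟨_, w, hw, rfl⟩
    obtain ⟨w', hw', rfl⟩ := hyN
    refine ⟨w', hw', ⟨⟨W.ι.base w', ⟨hyU, w'.2⟩⟩, ?_⟩⟩
    apply W.ι.isOpenEmbedding.injective
    rw [← Scheme.Hom.comp_apply, Scheme.homOfLE_ι]
    rfl
  exact IsSchemeTheoreticallyDominant.of_isDominant _

end Groth.Agent.H5.ImmD
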