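import Mathlib
import Groth.Agent.Lib.Helper5.ImmD.B

set_option autoImplicit false
universe u
open AlgebraicGeometry CategoryTheory Limits TopologicalSpace

namespace Groth.Agent.H5.ImmD

theorem isSchemeTheoreticallyDominant_toImage {X Y : Scheme.{u}} (f : X ⟶ Y) [QuasiCompact f] :
    IsSchemeTheoreticallyDominant f.toImage := by
  rw [isSchemeTheoreticallyDominant_iff]
  refine Scheme.IdealSheafData.ext_of_iSup_eq_top
    (fun U : Y.affineOpens => ⟨f.imageι ⁻¹ᵁ U.1, U.2.preimage f.imageι⟩) ?_ ?_
  · change ⨆ U : Y.affineOpens, f.imageι ⁻¹ᵁ U.1 = ⊤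
    rw [← Scheme.Hom.preimage_iSup, iSup_affineOpens_eq_top]
    rfl
  · intro U
    rw [Scheme.Hom.ker_apply]
    simp only [Scheme.IdealSheafData.ideal_bot, Pi.bot_apply]
    exact (RingHom.injective_iff_ker_eq_bot _).mp (f.toImage_app_injective U)

theorem main {Z X : Scheme.{u}} (h : Z ⟶ X) [IsImmersion h]
    (hyp : QuasiCompact h ∨ IsReduced Z) :
    ∃ hI : IsOpenImmersion h.toImage,
      (∀ W : h.image.Opens, IsSchemeTheoreticallyDominant
          (h.image.homOfLE (inf_le_right : @Scheme.Hom.opensRange _ _ h.toImage hI ⊓ W ≤ W))) ∧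
        DenseRange h.toImage.base := by
  rcases hyp with hqc | hred
  · have hI : IsOpenImmersion h.toImage := inferInstance
    refine ⟨hI, ?_, h.toImage.denseRange⟩
    intro W
    haveI := isSchemeTheoreticallyDominant_toImage h
    set U := h.toImage.opensRange with hU
    haveI : IsSchemeTheoreticallyDominant U.ι := by
      rw [isSchemeTheoreticallyDominant_iff, ← Scheme.Hom.ker_comp_of_isIso h.toImage.isoOpensRange.hom,
        Scheme.Hom.isoOpensRange_hom_ι]
      exact Scheme.Hom.ker_eq_bot h.toImage
    haveI : QuasiCompact U.ι := by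
      rw [← Scheme.Hom.isoOpensRange_inv_comp]
      infer_instance
    exact IsSchemeTheoreticallyDominant.of_isPullback (isPullback_opens_inf U W)
  · have hI : IsOpenImmersion h.toImage := isOpenImmersion_toImage_of_isReduced h
    haveI : IsReduced h.image := Groth.Agent.H2.isReduced_image h
    have hd := denseRange_toImage_of_isReduced h
    refine ⟨hI, ?_, hd⟩
    intro W
    refine isSchemeTheoreticallyDominant_homOfLE_of_isReduced _ W ?_
    exact hd

end Groth.Agent.H5.ImmD
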